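import Cfsg.Agent.Fong.A
import Cfsg.Agent.Loc.ZC
import Cfsg.Agent.Small.A7a
import Cfsg.Agent.M12S.A

/-! A simple group whose Sylow 2-subgroup has order 64 and a self-centralising element of order 8 conjugate to its odd
powers has Sylow 2-subgroups of type `M12`. -/

set_option autoImplicit false

namespace Cfsg.Agent.Fong

open Subgroup

/-- `1` -/
def e1 : Mo := ⟨0, false, false, false, false⟩
/-- `x ^ 4` -/
def ez : Mo := ⟨2, false, false, false, false⟩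
/-- `u` -/
def eu : Mo := ⟨0, false, true, false, false⟩
/-- `x ^ 4 u` -/
def ew : Mo := ⟨2, false, true, false, false⟩
/-- `x ^ 2` -/
def ec : Mo := ⟨1, false, false, false, false⟩
/-- the normal four-group -/
abbrev InU (m : Mo) : Prop := m = e1 ∨ m = ez ∨ m = eu ∨ m = ew

theorem F1 : ∀ α β γ : ZMod 4, α + α = 0 → β + β = 0 → (∀ m, mul α β γ m ez = mul α β γ ez m) ∧
    mul α β γ ez ez = e1 ∧ mul α β γ eu ew = ez ∧ mul α β γ ec ec = ez ∧ mul α β γ ec eu = mul α β γ eu ec ∧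
    (∃ g, mul α β γ g eu = mul α β γ ew g) ∧ (∃ m n, mul α β γ m n ≠ mul α β γ n m) ∧ mul α β γ e1 e1 = e1 ∧
    ∀ m, mul α β γ (mul α β γ m m) (mul α β γ m m) = e1 → InU (mul α β γ m m) := by decide +kernel

set_option synthInstance.maxSize 2000 in
theorem F2 : ∀ α β γ : ZMod 4, α + α = 0 → β + β = 0 → ¬ (α = 0 ∧ β = 0 ∧ γ + γ = 0) →
    ∃ w, mul α β γ w w = ez ∧ mul α β γ w eu = mul α β γ eu w ∧ ∀ y, mul α β γ y y = eu ∨ mul α β γ y y = ew →
      mul α β γ ec w ≠ mul α β γ w ec ∧ ∀ y', mul α β γ y' y' = mul α β γ y y → mul α β γ y y' = mul α β γ y' y := by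
  decide +kernel

theorem F3 : ∀ α β γ : ZMod 4, α + α = 0 → β + β = 0 → ∀ x, mul α β γ x x = e1 → ¬ InU x →
    (∀ w, mul α β γ w x = mul α β γ x w → mul α β γ w w ≠ ez) → mul α β γ eu x = mul α β γ x eu ∧
      mul α β γ ew x = mul α β γ x ew ∧
      ∀ y, mul α β γ y x = mul α β γ x y → InU y ∨ ∃ g, mul α β γ g x = mul α β γ y g := by decide +kernel

theorem F4 : ∀ α β γ : ZMod 4, ∀ m n, InU m → InU n → InU (mul α β γ m n) := by
  rintro α β γ m n (rfl | rfl | rfl | rfl) (rfl | rfl | rfl | rfl) <;> revert α β γ <;> decide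

/-- powers -/
def pw (γ : ZMod 4) (m : Mo) : ℕ → Mo
  | 0 => e1
  | n + 1 => mul 0 0 γ m (pw γ m n)

/-- the isomorphism with the `M12` model -/
def psi (γ : ZMod 4) (m : M12S.Md) : Mo :=
  mul 0 0 γ (pw γ ⟨0, false, false, true, true⟩ m.x.val) (mul 0 0 γ (pw γ ⟨3, false, true, true, true⟩ m.y.val)
    (mul 0 0 γ (cond m.i ⟨if γ = 0 then 0 else 1, true, false, true, true⟩ e1) (cond m.j ⟨0, false, false, false, true⟩ e1)))

theorem F5 : ∀ γ : ZMod 4, γ + γ = 0 → (∀ m n, psi γ (m * n) = mul 0 0 γ (psi γ m) (psi γ n)) ∧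
    ∀ m, psi γ m = e1 → m = 1 := by decide +kernel

theorem good {G : Type*} [Group G] [Finite G] [IsSimpleGroup G] (S : Sylow 2 G) {α β γ : ZMod 4} (ha : α + α = 0)
    (hb : β + β = 0) (f : Mo → G) (fi : Function.Injective f) (fm : ∀ m, f m ∈ (S : Subgroup G))
    (fs : ∀ {g}, g ∈ (S : Subgroup G) → ∃ m, f m = g) (mm : ∀ m n, f (mul α β γ m n) = f m * f n) :
    α = 0 ∧ β = 0 ∧ γ + γ = 0 := by
  by_contra bad
  obtain ⟨a1, a2, a3, a4, a5, ⟨g0, a6⟩, ⟨m0, n0, a7⟩, a8, a9⟩ := F1 α β γ ha hb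
  have f1 : f e1 = 1 := by simpa [a8] using mm e1 e1
  have fc : ∀ {g x y}, mul α β γ g x = mul α β γ y g → IsConj (f x) (f y) := fun {g x y} e =>
    isConj_iff.2 ⟨f g, by rw [← mm, e, mm, mul_inv_cancel_right]⟩
  have z1 : f ez ≠ 1 := fun e => absurd (fi (e.trans f1.symm)) (by decide)
  have oz : orderOf (f ez) = 2 := orderOf_eq_prime (by rw [sq, ← mm, a2, f1]) z1
  have c2 : ∀ {y}, IsConj (f ez) (f y) → mul α β γ y y = e1 ∧ y ≠ e1 := fun {y} c => by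
    obtain ⟨g, hg⟩ := isConj_iff.1 c
    exact ⟨fi (by rw [mm, ← hg, conj_mul, ← mm, a2, f1]; simp), fun e => z1 (by
      rwa [e, f1, conj_eq_one_iff] at hg)⟩
  have cjc : ∀ {g : G} {x y x' y'}, f y = g * f x * g⁻¹ → f y' = g * f x' * g⁻¹ →
      (mul α β γ x x' = mul α β γ x' x ↔ mul α β γ y y' = mul α β γ y' y) := fun a b => by
    rw [← fi.eq_iff, ← fi.eq_iff, mm, mm, mm, mm, a, b, conj_mul, conj_mul, mul_left_inj, mul_right_inj]
  have ex : ∀ x, IsConj (f ez) (f x) → ∃ g, f ez = g * f x * g⁻¹ ∧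
      ∀ w, mul α β γ w x = mul α β γ x w → ∃ w', f w' = g * f w * g⁻¹ := by
    intro x c
    obtain ⟨a, ha⟩ := isConj_iff.1 c
    obtain ⟨g, g1, g2⟩ := Loc.exists_extremal (Loc.sylIn_top S) (z := f ez) (h := a)
      (R := S ⊓ centralizer {a * f ez * a⁻¹}) (fun s hs => by
        obtain ⟨m, rfl⟩ := fs hs
        rw [← mm, a1, mm]) (S.isPGroup'.to_le inf_le_left) inf_le_right
    rw [ha] at g1 g2
    exact ⟨g, g1.symm, fun w hw => fs (Loc.cj_le_iff_forall.1 g2 _ ⟨fm w, mem_centralizer_singleton_iff.2 (by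
      rw [← mm, hw, mm])⟩)⟩
  have rt : ∀ {g x w w'}, f ez = g * f x * g⁻¹ → x ≠ ez → mul α β γ w w = ez → f w' = g * f w * g⁻¹ →
      IsConj (f ez) (f (mul α β γ w' w')) ∧ (mul α β γ w' w' = eu ∨ mul α β γ w' w' = ew) := by
    intro g x w w' g1 xz w2 w3
    have e : f (mul α β γ w' w') = g * f ez * g⁻¹ := by rw [mm, w3, conj_mul, ← mm, w2]
    have c : IsConj (f ez) (f (mul α β γ w' w')) := isConj_iff.2 ⟨g, e.symm⟩
    refine ⟨c, ((a9 w' (c2 c).1).resolve_left (c2 c).2).resolve_left fun d => xz (fi ?_)⟩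
    rw [d] at e
    exact mul_left_cancel (mul_right_cancel (g1.symm.trans e))
  have n : ¬ IsConj (f ez) (f eu) := fun c => by
    obtain ⟨w, w1, w2, w3⟩ := F2 α β γ ha hb bad
    obtain ⟨g, g1, g2⟩ := ex _ c
    obtain ⟨y, y1⟩ := g2 _ a5
    obtain ⟨y', y2⟩ := g2 _ w2
    obtain ⟨k1, k2⟩ := w3 y (rt g1 (by decide) a4 y1).2
    exact k1 ((cjc y1 y2).2 (k2 y' (fi (by rw [mm, mm, y1, y2, conj_mul, conj_mul, ← mm, ← mm, w1, a4]))))
  have n' : ¬ IsConj (f ez) (f ew) := fun c => n (c.trans (fc a6).symm)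
  have om : ∀ {x}, IsConj (f ez) (f x) → InU x → x = ez := fun c d => by
    rcases d with d | d | d | d
    exacts [absurd d (c2 c).2, d, absurd (d ▸ c) n, absurd (d ▸ c) n']
  have od := fun x (c : IsConj (f ez) (f x)) (a : x ≠ ez) => F3 α β γ ha hb x (c2 c).1 (fun d => a (om c d))
    fun w w1 w2 => by
      obtain ⟨g, g1, g2⟩ := ex x c
      obtain ⟨w', w3⟩ := g2 w w1
      obtain ⟨k1, k2 | k2⟩ := rt g1 a w2 w3
      exacts [n (k2 ▸ k1), n' (k2 ▸ k1)]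
  obtain ⟨a, b1, b2⟩ : ∃ g : G, g * f ez * g⁻¹ ∈ (S : Subgroup G) ∧ g * f ez * g⁻¹ ≠ f ez := by
    by_contra c
    push Not at c
    exact Small.not_isolated (fun i => a7 (fi (by rw [mm, mm, i.isMulCommutative.1.1]))) _
      ((Invol.isolated_iff_sylow S oz (fm ez)).2 c)
  obtain ⟨x, hx⟩ := fs b1
  have cx : IsConj (f ez) (f x) := isConj_iff.2 ⟨a, hx.symm⟩
  have xz : x ≠ ez := fun c => b2 (by rw [← hx, c])
  obtain ⟨x1, x2, -⟩ := od x cx xz
  obtain ⟨g, g1, g2⟩ := ex x cx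
  obtain ⟨u', u1⟩ := g2 _ x1
  obtain ⟨v', v1⟩ := g2 _ x2
  have k1 : f (mul α β γ u' v') = g * f ez * g⁻¹ := by rw [mm, u1, v1, conj_mul, ← mm, a3]
  have c1 : IsConj (f ez) (f (mul α β γ u' v')) := isConj_iff.2 ⟨g, k1.symm⟩
  have k2 : mul α β γ u' v' ≠ ez := fun c => xz (fi (by
    rw [c] at k1; exact (mul_left_cancel (mul_right_cancel (k1.symm.trans g1))).symm))
  obtain ⟨-, -, y3⟩ := od _ c1 k2
  have su := (y3 _ ((cjc u1 k1).1 (a1 _))).resolve_right fun ⟨_, c⟩ =>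
    n ((c1.trans (fc c)).trans (isConj_iff.2 ⟨g, u1.symm⟩).symm)
  have sv := (y3 _ ((cjc v1 k1).1 (a1 _))).resolve_right fun ⟨_, c⟩ =>
    n' ((c1.trans (fc c)).trans (isConj_iff.2 ⟨g, v1.symm⟩).symm)
  exact k2 (om c1 (F4 α β γ _ _ su sv))

theorem exists_md {G : Type*} [Group G] [Finite G] [IsSimpleGroup G] (P : Sylow 2 G)
    (hP : Nat.card (P : Subgroup G) = 64) {x : G} (hxP : x ∈ (P : Subgroup G)) (hx : orderOf x = 8)
    (hc : ∀ y ∈ (P : Subgroup G), y * x = x * y → y ∈ zpowers x)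
    (ho : ∀ k ∈ ({3, 5, 7} : Set ℕ), ∃ y ∈ (P : Subgroup G), y * x * y⁻¹ = x ^ k) : Nonempty (M12S.Md ≃* P) := by
  have t : ∀ k ∈ ({3, 5, 7} : Set ℕ), ∃ y : P, y * ⟨x, hxP⟩ * y⁻¹ = ⟨x, hxP⟩ ^ k := fun k hk => by
    obtain ⟨y, a, b⟩ := ho k hk
    exact ⟨⟨y, a⟩, Subtype.ext b⟩
  obtain ⟨C, u, a, b, α, β, γ, R, ha, hb, fs⟩ := exists_rel (S := P) (x := ⟨x, hxP⟩) hP (by rw [← hx]; exact (orderOf_coe _).symm)
    (fun y e => by
      obtain ⟨n, hn⟩ := hc y y.2 (congrArg Subtype.val e)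
      exact ⟨n, Subtype.ext (by simpa using hn)⟩) (t 5 (by simp)) (t 7 (by simp))
  have fi := ((Nat.bijective_iff_surjective_and_card _).2 ⟨fs, by rw [hP, Nat.card_eq_fintype_card]; rfl⟩).1
  obtain ⟨rfl, rfl, hg⟩ := good P ha hb (fun m => (ev C ⟨x, hxP⟩ u a b m : P)) (Subtype.val_injective.comp fi)
    (fun m => Subtype.property _) (fun {g} hg => (fs ⟨g, hg⟩).imp fun _ e => congrArg Subtype.val e)
    fun m n => congrArg Subtype.val (R.mul m n)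
  obtain ⟨k1, k2⟩ := F5 γ hg
  let φ : M12S.Md →* P := MonoidHom.mk' (fun m => ev C ⟨x, hxP⟩ u a b (psi γ m)) fun m n => by rw [k1, R.mul]
  exact ⟨MulEquiv.ofBijective φ ((Nat.bijective_iff_injective_and_card _).2 ⟨(injective_iff_map_eq_one φ).2 fun m e =>
    k2 m (fi (e.trans (by simp [ev, ev', e1, R.C0]))), by rw [hP, M12S.card_Md]⟩)⟩

end Cfsg.Agent.Fong
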